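import Groth.Agent.Chow.ProjPoints
import Mathlib

/-! Coordinates on a scheme with a morphism to `P^N_S`. -/

set_option linter.style.haveILetI false
universe u

open CategoryTheory CategoryTheory.Limits AlgebraicGeometry TopologicalSpace Opposite

namespace Groth.Chow.PEmb

noncomputable section

variable {X S : Scheme.{u}} {N : ℕ} (i : X ⟶ CohB1.ProjSpaceOver N S)

/-- the projection `P^N_S ⟶ P^N_ℤ` -/
def prZ (N : ℕ) (S : Scheme.{u}) : CohB1.ProjSpaceOver N S ⟶ CohB1.ProjSpace N Z.{u} := pullback.fst _ _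

/-- the composite to `P^N_ℤ` -/
def pf : X ⟶ CohB1.ProjSpace N Z.{u} := i ≫ prZ N S

/-- the structure morphism -/
abbrev strMap : X ⟶ S := i ≫ CohB1.ProjSpaceOver.toBase N S

/-- the standard open `x_k ≠ 0` -/
def Xo (k : Fin (N + 1)) : X.Opens := pf i ⁻¹ᵁ (qι.{u} k).opensRange

/-- the standard open over an open of the base -/
def W (k : Fin (N + 1)) (U : S.Opens) : X.Opens := Xo i k ⊓ strMap i ⁻¹ᵁ U

theorem W_le_Xo (k : Fin (N + 1)) (U : S.Opens) : W i k U ≤ Xo i k := inf_le_left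

theorem W_le_pre (k : Fin (N + 1)) (U : S.Opens) : W i k U ≤ strMap i ⁻¹ᵁ U := inf_le_right

theorem W_mono (k : Fin (N + 1)) {U V : S.Opens} (h : V ≤ U) : W i k V ≤ W i k U :=
  inf_le_inf le_rfl ((strMap i).preimage_mono h)

theorem iSup_Xo : ⨆ k, Xo i k = ⊤ := by
  refine top_le_iff.mp fun x _ => ?_
  obtain ⟨k, y, hy⟩ := (Proj.affineOpenCoverOfIrrelevantLESpan (pg.{u} N)
    (fun k : Fin (N + 1) => (MvPolynomial.X k : MvPolynomial (Fin (N + 1)) Z.{u})) (m := fun _ => 1)
    (fun k => X_mem k) (fun _ => one_pos) (irrelevant_le_span.{u} N)).openCover.exists_eq (pf i x)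
  exact Opens.mem_iSup.mpr ⟨k, y, hy⟩

theorem iSup_W (U : S.Opens) : ⨆ k, W i k U = strMap i ⁻¹ᵁ U := by
  simp only [W, ← iSup_inf_eq, iSup_Xo, top_inf_eq]

/-- the lift of `pf` to a chart -/
def κ (k : Fin (N + 1)) : (Xo i k).toScheme ⟶ Spec (CommRingCat.of (A.{u} N k)) :=
  IsOpenImmersion.lift (qι k) ((Xo i k).ι ≫ pf i) (by rintro _ ⟨x, rfl⟩; exact x.2)

theorem κ_qι (k : Fin (N + 1)) : κ i k ≫ qι k = (Xo i k).ι ≫ pf i :=
  IsOpenImmersion.lift_fac _ _ _

/-- the coordinate function `x_j / x_k` -/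
def coord (k j : Fin (N + 1)) : Γ(X, Xo i k) := (Xo i k).topIso.hom (homOf (κ i k) (q k j))

theorem coord_self (k : Fin (N + 1)) : coord i k k = 1 := by
  simp [coord, q_self]

/-- restriction of the coordinate function to a smaller open -/
def coordOn (k j : Fin (N + 1)) (V : X.Opens) (h : V ≤ Xo i k) : Γ(X, V) :=
  X.presheaf.map (homOfLE h).op (coord i k j)

theorem map_coordOn (k j : Fin (N + 1)) {V V' : X.Opens} (h : V ≤ Xo i k) (h' : V' ≤ V) :
    X.presheaf.map (homOfLE h').op (coordOn i k j V h) = coordOn i k j V' (h'.trans h) := by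
  rw [coordOn, coordOn, ← CommRingCat.comp_apply, ← Functor.map_comp]
  rfl

/-- the chart map of `V ≤ Xo k` -/
def chartHom (k : Fin (N + 1)) (V : X.Opens) (h : V ≤ Xo i k) : A.{u} N k →+* Γ(V.toScheme, ⊤) :=
  homOf (X.homOfLE h ≫ κ i k)

theorem mor_chartHom (k : Fin (N + 1)) (V : X.Opens) (h : V ≤ Xo i k) :
    mor (chartHom i k V h) = V.ι ≫ pf i := by
  rw [chartHom, mor, ← Category.assoc, toSpecΓ_homOf, Category.assoc, κ_qι, X.homOfLE_ι_assoc]

theorem chartHom_q (k : Fin (N + 1)) (V : X.Opens) (h : V ≤ Xo i k) (j : Fin (N + 1)) :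
    chartHom i k V h (q k j) = V.topIso.inv (coordOn i k j V h) := by
  rw [chartHom, homOf_comp]
  show (X.homOfLE h).appTop (homOf (κ i k) (q k j)) = _
  rw [coordOn, coord, ← CommRingCat.comp_apply, ← CommRingCat.comp_apply]
  congr 2
  simp only [Scheme.homOfLE_appTop, Scheme.Opens.topIso_hom, Scheme.Opens.topIso_inv, Category.assoc]
  erw [← Functor.map_comp, ← Functor.map_comp]
  rfl

/-- change of chart for the coordinates -/
theorem coordOn_transition (k l j : Fin (N + 1)) (V : X.Opens) (hk : V ≤ Xo i k) (hl : V ≤ Xo i l) :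
    coordOn i k j V hk = coordOn i k l V hk * coordOn i l j V hl := by
  have h := (mor_eq_iff (chartHom i k V hk) (chartHom i l V hl)).mp
    ((mor_chartHom i k V hk).trans (mor_chartHom i l V hl).symm) j
  rw [chartHom_q, chartHom_q, chartHom_q, ← map_mul] at h
  have := congrArg V.topIso.hom h
  rw [Iso.inv_hom_id_apply, Iso.inv_hom_id_apply] at this
  rw [← this, mul_comm]

theorem Xo_inf (k l : Fin (N + 1)) : Xo i l ⊓ Xo i k = X.basicOpen (coord i l k) := by
  have he : HomogeneousLocalization.Away.isLocalizationElem (X_mem.{u} l) (X_mem.{u} k) = q.{u} l k := by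
    apply HomogeneousLocalization.val_injective
    simp [q]
  have hD : qι.{u} l ⁻¹ᵁ (qι.{u} k).opensRange = PrimeSpectrum.basicOpen (q.{u} l k) := by
    have h := Proj.awayι_preimage_basicOpen (pg.{u} N) (X_mem l) one_pos (X_mem k) one_pos
    rw [he] at h
    have h2 : (qι.{u} k).opensRange = Proj.basicOpen (pg.{u} N) (MvPolynomial.X k) :=
      Proj.opensRange_awayι (pg.{u} N) _ (X_mem k) one_pos
    rw [h2]
    exact h
  have h1 : (Xo i l).ι ⁻¹ᵁ Xo i k = (Xo i l).toScheme.basicOpen (homOf (κ i l) (q l k)) := by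
    show (Xo i l).ι ⁻¹ᵁ (pf i ⁻¹ᵁ _) = _
    rw [← Scheme.Hom.comp_preimage, ← κ_qι, Scheme.Hom.comp_preimage, hD]
    refine Eq.trans ?_ (Scheme.toSpecΓ_preimage_basicOpen _ _)
    generalize hφ : κ i l = φ
    conv_lhs => rw [← toSpecΓ_homOf φ]
    rfl
  have h2 := congrArg (fun V => (Xo i l).ι ''ᵁ V) h1
  simp only [Scheme.Hom.image_preimage_eq_opensRange_inf, Scheme.Opens.opensRange_ι,
    Scheme.image_basicOpen] at h2
  rw [h2]
  simp only [coord, Scheme.Opens.topIso_hom]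
  rw [Scheme.Opens.ι_appIso]
  erw [Scheme.basicOpen_res_eq]
  rfl

theorem W_inf (k l : Fin (N + 1)) (U : S.Opens) :
    W i l U ⊓ W i k U = X.basicOpen (coordOn i l k (W i l U) (W_le_Xo i l U)) := by
  rw [coordOn, Scheme.basicOpen_res, ← Xo_inf]
  apply le_antisymm
  · exact le_inf inf_le_left (inf_le_inf inf_le_left inf_le_left)
  · intro x hx
    exact ⟨hx.1, hx.2.2, hx.1.2⟩

theorem W_basicOpen (k : Fin (N + 1)) {U : S.Opens} (r : Γ(S, U)) :
    W i k (S.basicOpen r) = X.basicOpen ((strMap i).appLE U (W i k U) (W_le_pre i k U) r) := by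
  have h : X.basicOpen ((strMap i).appLE U (W i k U) (W_le_pre i k U) r) =
      W i k U ⊓ strMap i ⁻¹ᵁ S.basicOpen r := by
    rw [Scheme.basicOpen_appLE, inf_comm]
  rw [h]
  apply le_antisymm
  · exact le_inf (W_mono i k (S.basicOpen_le r)) inf_le_right
  · exact le_inf (inf_le_left.trans inf_le_left) inf_le_right

variable [IsClosedImmersion i]

theorem exists_affine_box (k : Fin (N + 1)) {U : S.Opens} (hU : IsAffineOpen U) :
    ∃ (Ω : (CohB1.ProjSpaceOver N S).Opens), IsAffineOpen Ω ∧ i ⁻¹ᵁ Ω = W i k U ∧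
      ∀ R : Subring Γ(CohB1.ProjSpaceOver N S, Ω),
        (∀ (h : Ω ≤ CohB1.ProjSpaceOver.toBase N S ⁻¹ᵁ U) r,
          (CohB1.ProjSpaceOver.toBase N S).appLE U Ω h r ∈ R) →
        (∀ (a : Ω.toScheme ⟶ Spec (CommRingCat.of (A.{u} N k))),
          a ≫ qι k = Ω.ι ≫ prZ N S → ∀ z, Ω.topIso.hom (homOf a z) ∈ R) → R = ⊤ := by
  let P := CohB1.ProjSpaceOver N S
  let p1 : P ⟶ CohB1.ProjSpace N Z.{u} := prZ N S
  let p2 : P ⟶ S := CohB1.ProjSpaceOver.toBase N S
  let u₁ : Spec (CommRingCat.of (A.{u} N k)) ⟶ Spec (CommRingCat.of Z.{u}) :=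
    qι k ≫ CohB1.ProjSpace.toSpec _ _
  let u₂ : U.toScheme ⟶ Spec (CommRingCat.of Z.{u}) := U.ι ≫ specULiftZIsTerminal.from S
  let c : pullback u₁ u₂ ⟶ P :=
    pullback.map u₁ u₂ (CohB1.ProjSpace.toSpec _ _) (specULiftZIsTerminal.from S)
      (qι k) U.ι (𝟙 _) (Category.comp_id _) (Category.comp_id _)
  haveI : IsOpenImmersion c := Scheme.pullback_map_isOpenImmersion _ _ _ _ _ _ _ _ _
  haveI : IsAffine U.toScheme := hU
  haveI : IsAffineHom u₁ := inferInstance
  haveI : IsAffine (pullback u₁ u₂) := inferInstance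
  have hc1 : c ≫ p1 = pullback.fst u₁ u₂ ≫ qι k := pullback.lift_fst _ _ _
  have hc2 : c ≫ p2 = pullback.snd u₁ u₂ ≫ U.ι := pullback.lift_snd _ _ _
  have hr : Set.range c = p1 ⁻¹' Set.range (qι.{u} k) ∩ p2 ⁻¹' Set.range U.ι :=
    Scheme.Pullback.range_map _ _ _ _ _ _ _ _ _
  refine ⟨c.opensRange, isAffineOpen_opensRange c, ?_, fun R hR1 hR2 => ?_⟩
  · ext x
    change i x ∈ Set.range c ↔ x ∈ W i k U
    rw [hr, Scheme.Opens.range_ι]
    rfl
  · let Ω := c.opensRange
    haveI : IsAffine Ω.toScheme := isAffineOpen_opensRange c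
    let R' : Subring Γ(Ω.toScheme, ⊤) := R.comap Ω.topIso.hom.hom
    suffices hR' : R' = ⊤ by
      refine top_le_iff.mp fun z _ => ?_
      have : Ω.topIso.inv z ∈ R' := hR' ▸ Subring.mem_top _
      have h2 : Ω.topIso.hom (Ω.topIso.inv z) ∈ R := this
      rwa [Iso.inv_hom_id_apply] at h2
    let e := c.isoOpensRange
    have he : e.hom ≫ Ω.ι = c := Scheme.Hom.isoOpensRange_hom_ι c
    have he' : e.inv ≫ c = Ω.ι := by rw [Iso.inv_comp_eq]; exact he.symm
    let a : Ω.toScheme ⟶ Spec (CommRingCat.of (A.{u} N k)) := e.inv ≫ pullback.fst u₁ u₂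
    let b : Ω.toScheme ⟶ U.toScheme := e.inv ≫ pullback.snd u₁ u₂
    have ha : a ≫ qι k = Ω.ι ≫ p1 := by
      rw [Category.assoc, ← hc1, ← Category.assoc, he']
    have hb : b ≫ U.ι = Ω.ι ≫ p2 := by
      rw [Category.assoc, ← hc2, ← Category.assoc, he']
    have hΩU : Ω ≤ p2 ⁻¹ᵁ U := by
      rintro _ ⟨y, rfl⟩
      show (c ≫ p2) y ∈ U
      rw [hc2]
      exact (pullback.snd u₁ u₂ y).2
    have hb' : b = p2.resLE U Ω hΩU := by
      rw [← cancel_mono U.ι, hb, Scheme.Hom.resLE_comp_ι]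
    have hA : ∀ z, homOf a z ∈ R' := fun z => hR2 a ha z
    have hB : ∀ z, b.appTop z ∈ R' := fun z => by
      show Ω.topIso.hom (b.appTop z) ∈ R
      rw [hb', Scheme.Hom.appTop, Scheme.Hom.resLE_app_top]
      simp only [CommRingCat.comp_apply, Iso.inv_hom_id_apply]
      exact hR1 hΩU _
    let incl : CommRingCat.of R' ⟶ Γ(Ω.toScheme, ⊤) := CommRingCat.ofHom R'.subtype
    let fA : A.{u} N k →+* R' := (homOf a).codRestrict R' hA
    let fB : CommRingCat.of Γ(U.toScheme, ⊤) ⟶ CommRingCat.of R' :=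
      CommRingCat.ofHom (b.appTop.hom.codRestrict R' hB)
    let g : Spec (CommRingCat.of R') ⟶ pullback u₁ u₂ :=
      pullback.lift (Spec.map (CommRingCat.ofHom fA)) (Spec.map fB ≫ U.toScheme.isoSpec.inv)
        (specULiftZIsTerminal.hom_ext _ _)
    have h1 : Ω.toScheme.toSpecΓ ≫ Spec.map incl ≫ g = e.inv := by
      apply pullback.hom_ext
      · simp only [g, Category.assoc, pullback.lift_fst]
        rw [← Spec.map_comp]
        exact toSpecΓ_homOf a
      · simp only [g, Category.assoc, pullback.lift_snd]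
        rw [← Spec.map_comp_assoc, ← Category.assoc, Iso.comp_inv_eq]
        show Ω.toScheme.toSpecΓ ≫ Spec.map b.appTop = b ≫ U.toScheme.toSpecΓ
        exact (Scheme.toSpecΓ_naturality b).symm
    have hinj : (Ω.toScheme.toSpecΓ ≫ Spec.map incl) ≫ (g ≫ e.hom) = 𝟙 Ω.toScheme := by
      rw [Category.assoc, ← Category.assoc (Spec.map incl), ← Category.assoc Ω.toScheme.toSpecΓ, h1,
        Iso.inv_hom_id]
    have h3 := congrArg (fun k => k.appTop) hinj
    simp only [Scheme.Hom.comp_appTop, Scheme.Hom.id_appTop] at h3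
    refine top_le_iff.mp fun z _ => ?_
    have h4 := congrArg (fun k => k z) h3
    simp only [CommRingCat.comp_apply, CommRingCat.id_apply] at h4
    have h5 : ∀ w, Ω.toScheme.toSpecΓ.appTop ((Spec.map incl).appTop w) =
        incl ((Scheme.ΓSpecIso (CommRingCat.of R')).hom w) := fun w => by
      rw [Scheme.toSpecΓ_appTop, ← CommRingCat.comp_apply, ← CommRingCat.comp_apply,
        ← Scheme.ΓSpecIso_naturality]
    rw [h5] at h4
    have h6 : z ∈ R' := by
      have h7 := ((Scheme.ΓSpecIso (CommRingCat.of R')).hom (g.appTop (e.hom.appTop z))).2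
      have h8 : (R'.subtype ((Scheme.ΓSpecIso (CommRingCat.of R')).hom (g.appTop (e.hom.appTop z))) :
          Γ(Ω.toScheme, ⊤)) = z := h4
      rw [← h8]
      exact h7
    exact h6

theorem isAffineOpen_W (k : Fin (N + 1)) {U : S.Opens} (hU : IsAffineOpen U) : IsAffineOpen (W i k U) := by
  obtain ⟨Ω, hΩ, h, -⟩ := exists_affine_box i k hU
  rw [← h]
  exact hΩ.preimage i

/-- functions on a standard open are generated by the base and the coordinates -/
theorem W_generated (k : Fin (N + 1)) {U : S.Opens} (hU : IsAffineOpen U) :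
    Subring.closure (Set.range ((strMap i).appLE U (W i k U) (W_le_pre i k U)) ∪
      Set.range (fun j => coordOn i k j (W i k U) (W_le_Xo i k U))) = ⊤ := by
  obtain ⟨Ω, hΩ, h, hgen⟩ := exists_affine_box i k hU
  set K := Subring.closure (Set.range ((strMap i).appLE U (W i k U) (W_le_pre i k U)) ∪
      Set.range (fun j => coordOn i k j (W i k U) (W_le_Xo i k U)))
  have hK := hgen (K.comap (i.appLE Ω (W i k U) h.ge).hom) ?_ ?_
  · refine top_le_iff.mp fun z _ => ?_
    have hz : ∀ (V : X.Opens) (e : i ⁻¹ᵁ Ω = V) (z : Γ(X, V)), ∃ v, i.appLE Ω V e.ge v = z := by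
      rintro _ rfl z
      obtain ⟨v, hv⟩ := i.app_surjective Ω hΩ z
      exact ⟨v, by rwa [← Scheme.Hom.app_eq_appLE]⟩
    obtain ⟨v, rfl⟩ := hz _ h z
    have : v ∈ K.comap (i.appLE Ω (W i k U) h.ge).hom := hK ▸ Subring.mem_top _
    exact this
  · intro h' r
    refine Subring.subset_closure (Or.inl ⟨r, ?_⟩)
    rw [← CommRingCat.comp_apply, Scheme.Hom.appLE_comp_appLE]
  · intro a ha z
    show i.appLE Ω (W i k U) h.ge (Ω.topIso.hom (homOf a z)) ∈ K
    have hres : i.appLE Ω (W i k U) h.ge (Ω.topIso.hom (homOf a z)) =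
        (W i k U).topIso.hom (chartHom i k (W i k U) (W_le_Xo i k U) z) := by
      have e : i.resLE Ω (W i k U) h.ge ≫ a = X.homOfLE (W_le_Xo i k U) ≫ κ i k := by
        rw [← cancel_mono (qι k), Category.assoc, ha, Scheme.Hom.resLE_comp_ι_assoc, Category.assoc,
          κ_qι, X.homOfLE_ι_assoc]
        rfl
      rw [chartHom, ← e, homOf_comp, Scheme.Hom.appTop, Scheme.Hom.resLE_app_top]
      simp only [RingHom.comp_apply, CommRingCat.hom_comp, Iso.inv_hom_id_apply]
    rw [hres]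
    clear hres
    obtain ⟨p, rfl⟩ := qpoly_surjective k z
    induction p using MvPolynomial.induction_on with
    | C c =>
      have : ∀ c : Z.{u}, ∃ n : ℤ, c = (n : Z.{u}) := fun c => ⟨c.down, by ext; simp⟩
      obtain ⟨n, rfl⟩ := this c
      simp
    | add p p' hp hp' => simp only [map_add] at hp hp' ⊢; exact add_mem hp hp'
    | mul_X p j hp =>
      simp only [map_mul] at hp ⊢
      refine mul_mem hp (Subring.subset_closure (Or.inr ⟨j, ?_⟩))
      rw [MvPolynomial.eval₂Hom_X', chartHom_q]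
      exact (Iso.inv_hom_id_apply _ _).symm

end

end Groth.Chow.PEmb
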