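import Groth.Agent.Chow.ProjEmb.Alg
import Groth.Agent.Ega2Proj2.GenDeg
import Groth.Agent.Ega2Proj2.ProjLoc

/-! A closed subscheme of `P^N_S` is the relative Proj of its homogeneous coordinate algebra. -/

set_option linter.style.haveILetI false
universe u

open CategoryTheory CategoryTheory.Limits AlgebraicGeometry TopologicalSpace Opposite
open scoped HomogeneousIdeal

namespace Groth.Chow.PEmb

noncomputable section

variable {X S : Scheme.{u}} {N : ℕ} (i : X ⟶ CohB1.ProjSpaceOver N S)

theorem transition {U : S.Opens} {a : BB i U} (ha : a ∈ gen i U) (k l : Fin (N + 1)) (V : X.Opens)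
    (hk : V ≤ W i k U) (hl : V ≤ W i l U) :
    PowerSeries.map (X.presheaf.map (homOfLE hk).op).hom (a k) =
      PowerSeries.rescale (coordOn i k l V (hk.trans (W_le_Xo i k U)))
        (PowerSeries.map (X.presheaf.map (homOfLE hl).op).hom (a l)) := by
  induction ha using Subring.closure_induction with
  | mem a ha =>
    rcases ha with ⟨r, rfl⟩ | ⟨j, rfl⟩
    · rw [strB_apply, strB_apply, PowerSeries.map_C, PowerSeries.map_C]
      refine PowerSeries.ext fun d => ?_
      rw [PowerSeries.coeff_rescale, PowerSeries.coeff_C, PowerSeries.coeff_C]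
      split_ifs with hd
      · subst hd
        rw [pow_zero, one_mul, ← CommRingCat.comp_apply, ← CommRingCat.comp_apply,
          Scheme.Hom.appLE_map, Scheme.Hom.appLE_map]
      · rw [mul_zero]
    · rw [sB, sB, map_mul, map_mul, map_mul, PowerSeries.map_C, PowerSeries.map_C, PowerSeries.map_X,
        PowerSeries.map_X, PowerSeries.rescale_X]
      refine PowerSeries.ext fun d => ?_
      rw [PowerSeries.coeff_C_mul, ← mul_assoc]
      have : PowerSeries.rescale (coordOn i k l V (hk.trans (W_le_Xo i k U)))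
          (PowerSeries.C (X.presheaf.map (homOfLE hl).op (coordOn i l j (W i l U) (W_le_Xo i l U)))) =
          PowerSeries.C (X.presheaf.map (homOfLE hl).op (coordOn i l j (W i l U) (W_le_Xo i l U))) := by
        refine PowerSeries.ext fun e => ?_
        rw [PowerSeries.coeff_rescale, PowerSeries.coeff_C]
        split_ifs with he
        · subst he; simp
        · simp
      rw [this, ← map_mul, PowerSeries.coeff_C_mul, map_coordOn, map_coordOn,
        coordOn_transition i k l j V (hk.trans (W_le_Xo i k U)) (hl.trans (W_le_Xo i l U))]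
      ring
  | zero => simp
  | one => simp
  | add a b _ _ ha hb => simp [Pi.add_apply, map_add, ha, hb]
  | neg a _ ha => simp [Pi.neg_apply, map_neg, ha]
  | mul a b _ _ ha hb => simp [Pi.mul_apply, map_mul, ha, hb]

variable [IsClosedImmersion i]

section affine

variable {U : S.Opens} (hU : IsAffineOpen U) (k : Fin (N + 1))

/-- the grading over an affine open; `hU` is a parameter so that the instance below can be found -/
def Dg {U : S.Opens} (_hU : IsAffineOpen U) : ℕ → AddSubgroup (Asub i U) := degA i U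

instance gradedDg {U : S.Opens} (hU : IsAffineOpen U) : GradedRing (Dg i hU) := gradedA i U hU

omit [IsClosedImmersion i] in
theorem sA_mem_Dg {U : S.Opens} (hU : IsAffineOpen U) (j : Fin (N + 1)) : sA i U j ∈ Dg i hU 1 :=
  sA_mem_degA i U j

omit [IsClosedImmersion i] in
theorem strA_mem_Dg {U : S.Opens} (hU : IsAffineOpen U) (r : Γ(S, U)) : strA i U r ∈ Dg i hU 0 :=
  strA_mem_degA i U r

omit [IsClosedImmersion i] in
theorem mem_Dg {U : S.Opens} (hU : IsAffineOpen U) {n : ℕ} {a : Asub i U} :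
    a ∈ Dg i hU n ↔ a ∈ degA i U n := Iff.rfl

include hU

theorem mem_range_poly (a : Asub i U) :
    (a.1 k) ∈ (Polynomial.coeToPowerSeries.ringHom (R := Γ(X, W i k U))).range := by
  obtain ⟨n, hn⟩ := bdd_gen i (mem_gen_of_loc i hU a.2)
  refine ⟨(a.1 k).trunc n, PowerSeries.ext fun d => ?_⟩
  show PowerSeries.coeff d (Polynomial.coeToPowerSeries.ringHom (PowerSeries.trunc n (a.1 k))) = _
  rw [Polynomial.coeToPowerSeries.ringHom_apply, Polynomial.coeff_coe, PowerSeries.coeff_trunc]
  split_ifs with h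
  · rfl
  · exact (hn k d (not_lt.mp h)).symm

/-- the polynomial of a section on a chart -/
def polyOf : Asub i U →+* Polynomial Γ(X, W i k U) :=
  (RingEquiv.ofBijective (Polynomial.coeToPowerSeries.ringHom (R := Γ(X, W i k U))).rangeRestrict
    ⟨fun _ _ h => Polynomial.coe_injective _ (congrArg Subtype.val h),
      RingHom.rangeRestrict_surjective _⟩).symm.toRingHom.comp
    ((((Pi.evalRingHom _ k).comp (Asub i U).subtype)).codRestrict _ (mem_range_poly i hU k))

theorem coe_polyOf (a : Asub i U) : ((polyOf i hU k a : Polynomial Γ(X, W i k U)) : PowerSeries _) = a.1 k := by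
  let e := RingEquiv.ofBijective (Polynomial.coeToPowerSeries.ringHom (R := Γ(X, W i k U))).rangeRestrict
    ⟨fun _ _ h => Polynomial.coe_injective _ (congrArg Subtype.val h),
      RingHom.rangeRestrict_surjective _⟩
  exact congrArg Subtype.val (e.apply_symm_apply ⟨a.1 k, mem_range_poly i hU k a⟩)

/-- evaluation at the chart -/
def ev : Asub i U →+* Γ(X, W i k U) := (Polynomial.evalRingHom 1).comp (polyOf i hU k)

theorem ev_of_mem {n : ℕ} {a : Asub i U} (ha : a ∈ degA i U n) :
    ev i hU k a = PowerSeries.coeff n (a.1 k) := by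
  have : polyOf i hU k a = Polynomial.monomial n (PowerSeries.coeff n (a.1 k)) := by
    apply Polynomial.coe_injective
    rw [coe_polyOf]
    refine PowerSeries.ext fun d => ?_
    rw [Polynomial.coeff_coe, Polynomial.coeff_monomial]
    split_ifs with h
    · rw [h]
    · exact ha k d (Ne.symm h)
  show Polynomial.eval 1 (polyOf i hU k a) = _
  rw [this, Polynomial.eval_monomial, one_pow, mul_one]

theorem ev_strA (r : Γ(S, U)) :
    ev i hU k (strA i U r) = (strMap i).appLE U (W i k U) (W_le_pre i k U) r := by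
  rw [ev_of_mem i hU k (strA_mem_degA i U r)]
  show PowerSeries.coeff 0 (strB i U r k) = _
  rw [strB_apply, PowerSeries.coeff_C, if_pos rfl]

theorem ev_sA (j : Fin (N + 1)) : ev i hU k (sA i U j) = coordOn i k j (W i k U) (W_le_Xo i k U) := by
  rw [ev_of_mem i hU k (sA_mem_degA i U j)]
  show PowerSeries.coeff 1 (sB i U j k) = _
  rw [sB, PowerSeries.coeff_C_mul, PowerSeries.coeff_X, if_pos rfl, mul_one]

theorem ev_sA_self : ev i hU k (sA i U k) = 1 := by
  rw [ev_sA, coordOn, coord_self, map_one]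

/-- the chart ring of the graded algebra -/
abbrev Aw : Type u := HomogeneousLocalization.Away (Dg i hU) (sA i U k : Asub i U)

/-- the comparison -/
def θ : Aw i hU k →+* Γ(X, W i k U) :=
  (Localization.awayLift (ev i hU k) _ (by rw [ev_sA_self]; exact isUnit_one)).comp
    (algebraMap _ (Localization.Away (sA i U k : Asub i U)))

theorem θ_mk (n : ℕ) (a : Asub i U) (ha : a ∈ (Dg i hU) (n • 1)) :
    θ i hU k (HomogeneousLocalization.Away.mk (Dg i hU) (d := 1) (sA_mem_Dg i hU k) n a ha) =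
      ev i hU k a := by
  rw [θ, RingHom.comp_apply, HomogeneousLocalization.algebraMap_apply,
    HomogeneousLocalization.Away.val_mk]
  refine (Localization.awayLift_mk (ev i hU k) _ _ (1 : Γ(X, W i k U)) ?_ n).trans ?_
  · rw [mul_one]; exact ev_sA_self i hU k
  · rw [one_pow, mul_one]

theorem θ_bijective : Function.Bijective (θ i hU k) := by
  constructor
  · rw [injective_iff_map_eq_zero]
    intro z hz
    obtain ⟨n, a, ha, rfl⟩ := HomogeneousLocalization.Away.mk_surjective (Dg i hU) (d := 1)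
      (sA_mem_Dg i hU k) z
    rw [θ_mk] at hz
    have ha' : a ∈ degA i U n := by
      rw [smul_eq_mul, mul_one] at ha; exact ha
    rw [ev_of_mem i hU k ha'] at hz
    have key : ∀ l, ∃ m : ℕ, coordOn i l k (W i l U) (W_le_Xo i l U) ^ m *
        PowerSeries.coeff n ((a : Asub i U).1 l) = 0 := by
      intro l
      have ht := congrArg (PowerSeries.coeff n) (transition i (mem_gen_of_loc i hU (a : Asub i U).2) l k
        (W i l U ⊓ W i k U) inf_le_left inf_le_right)
      rw [PowerSeries.coeff_rescale, PowerSeries.coeff_map, PowerSeries.coeff_map] at ht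
      erw [hz] at ht
      rw [map_zero, mul_zero] at ht
      letI : Algebra Γ(X, W i l U) Γ(X, W i l U ⊓ W i k U) :=
        (X.presheaf.map (homOfLE (inf_le_left : W i l U ⊓ W i k U ≤ W i l U)).op).hom.toAlgebra
      haveI := (isAffineOpen_W i l hU).isLocalization_of_eq_basicOpen
        (coordOn i l k (W i l U) (W_le_Xo i l U))
        (homOfLE (inf_le_left : W i l U ⊓ W i k U ≤ W i l U)) (W_inf i k l U)
      obtain ⟨⟨_, m, rfl⟩, hm⟩ := (IsLocalization.map_eq_zero_iff
        (Submonoid.powers (coordOn i l k (W i l U) (W_le_Xo i l U))) Γ(X, W i l U ⊓ W i k U) _).mp ht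
      exact ⟨m, hm⟩
    choose m hm using key
    let M := Finset.univ.sup m
    have h0 : sA i U k ^ M * (a : Asub i U) = 0 := by
      refine Subtype.ext (ext_coeff i fun l d => ?_)
      show PowerSeries.coeff d (sB i U k l ^ M * (a : Asub i U).1 l) = PowerSeries.coeff d 0
      rw [map_zero, sB, mul_pow, ← map_pow, mul_assoc, PowerSeries.coeff_C_mul,
        PowerSeries.coeff_X_pow_mul']
      split_ifs with h
      · by_cases hd : d - M = n
        · obtain ⟨t, ht⟩ := Nat.exists_eq_add_of_le (Finset.le_sup (f := m) (Finset.mem_univ l))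
          rw [hd, show M = m l + t from ht, pow_add, mul_comm (_ ^ m l), mul_assoc, hm, mul_zero]
        · rw [ha' l _ hd, mul_zero]
      · rw [mul_zero]
    apply HomogeneousLocalization.val_injective
    rw [HomogeneousLocalization.Away.val_mk, HomogeneousLocalization.val_zero, Localization.mk_eq_mk',
      IsLocalization.mk'_eq_zero_iff]
    exact ⟨⟨_, M, rfl⟩, h0⟩
  · intro z
    have hr : (θ i hU k).range = ⊤ := by
      refine top_le_iff.mp ?_
      rw [← W_generated i k hU, Subring.closure_le]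
      rintro _ (⟨r, rfl⟩ | ⟨j, rfl⟩)
      · exact ⟨HomogeneousLocalization.Away.mk (Dg i hU) (d := 1) (sA_mem_Dg i hU k) 0 (strA i U r)
          (by rw [zero_smul]; exact strA_mem_Dg i hU r), (θ_mk i hU k _ _ _).trans (ev_strA i hU k r)⟩
      · exact ⟨HomogeneousLocalization.Away.mk (Dg i hU) (d := 1) (sA_mem_Dg i hU k) 1 (sA i U j)
          (by rw [one_smul]; exact sA_mem_Dg i hU j), (θ_mk i hU k _ _ _).trans (ev_sA i hU k j)⟩
    exact (hr ▸ Subring.mem_top z : z ∈ (θ i hU k).range)

/-- the chart map to `X` -/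
def ω : Spec (CommRingCat.of (Aw i hU k)) ⟶ X :=
  Spec.map (CommRingCat.ofHom (RingEquiv.ofBijective _ (θ_bijective i hU k)).symm.toRingHom) ≫
    (isAffineOpen_W i k hU).fromSpec

theorem θinv_θ (z : Aw i hU k) :
    (RingEquiv.ofBijective _ (θ_bijective i hU k)).symm (θ i hU k z) = z :=
  (RingEquiv.ofBijective _ (θ_bijective i hU k)).symm_apply_apply z

instance : IsIso (CommRingCat.ofHom (RingEquiv.ofBijective _ (θ_bijective i hU k)).symm.toRingHom) :=
  (RingEquiv.ofBijective _ (θ_bijective i hU k)).symm.toCommRingCatIso.isIso_hom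

theorem isOpenImmersion_ω : IsOpenImmersion (ω i hU k) := by
  unfold ω; infer_instance

theorem opensRange_ω : haveI := isOpenImmersion_ω i hU k; (ω i hU k).opensRange = W i k U := by
  haveI := isOpenImmersion_ω i hU k
  refine Opens.ext ?_
  show Set.range (ω i hU k) = _
  rw [ω, Scheme.Hom.comp_base, TopCat.coe_comp, Set.range_comp,
    Set.range_eq_univ.mpr (Spec.map (CommRingCat.ofHom
      (RingEquiv.ofBijective _ (θ_bijective i hU k)).symm.toRingHom)).surjective,
    Set.image_univ]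
  exact (isAffineOpen_W i k hU).range_fromSpec

/-- the graded map from the polynomial ring -/
def φ0 : pg.{u} N →+*ᵍ (Dg i hU) :=
  { (MvPolynomial.eval₂Hom (castZ (Asub i U)) (sA i U) :
      MvPolynomial (Fin (N + 1)) Z.{u} →+* Asub i U) with
    map_mem := fun {n p} hp => by
      show MvPolynomial.eval₂ (castZ (Asub i U)) (sA i U) p ∈ degA i U n
      rw [MvPolynomial.eval₂_eq']
      refine sum_mem fun d hd => ?_
      have hp' : MvPolynomial.IsHomogeneous p n := by simpa using hp
      have hdeg : ∑ l, d l = n := by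
        have := hp' (MvPolynomial.mem_support_iff.mp hd)
        rwa [Finsupp.weight_apply, Finsupp.sum_fintype _ _ (by simp), show
          (∑ l, d l • (1 : Fin (N + 1) → ℕ) l) = ∑ l, d l by simp] at this
      have h0 : castZ (Asub i U) (p.coeff d) ∈ degA i U 0 := SetLike.intCast_mem_graded _ _
      have h1 := SetLike.prod_pow_mem_graded (degA i U) (fun _ : Fin (N + 1) => 1) (sA i U)
        (F := Finset.univ) d (fun j _ => sA_mem_Dg i hU j)
      simp only [smul_eq_mul, mul_one, hdeg] at h1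
      simpa using SetLike.mul_mem_graded h0 h1 }

omit [IsClosedImmersion i] in
theorem φ0_X (j : Fin (N + 1)) : φ0 i hU (MvPolynomial.X j) = sA i U j :=
  MvPolynomial.eval₂_X _ _ j

theorem irrelevant_le_span_sA :
    (Dg i hU)₊.toIdeal ≤ Ideal.span (Set.range fun j => (sA i U j : Asub i U)) := by
  refine (HomogeneousIdeal.toIdeal_irrelevant_le _).mpr fun n hn b hb => ?_
  refine Groth.Ega2P2.mem_span_of_mem_closure (𝒜 := (Dg i hU)) (G := ((Dg i hU) 0 : Set _)) (Set.Subset.refl _)
    (T := Set.range fun j => (sA i U j : Asub i U)) ?_ ?_ hn hb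
  · rintro _ ⟨j, rfl⟩; exact sA_mem_Dg i hU j
  · have h : Subring.closure ((degA i U 0 : Set (Asub i U)) ∪ Set.range (sA i U)) = ⊤ :=
      mem_of_gens i hU _ (fun r => Subring.subset_closure (Or.inl (strA_mem_Dg i hU r)))
        (fun j => Subring.subset_closure (Or.inr ⟨j, rfl⟩))
    exact h.ge (Subring.mem_top (b : Asub i U))

theorem irrelevant_le_φ0 : (Dg i hU)₊ ≤ ((pg.{u} N)₊).map (φ0 i hU) := by
  intro b hb
  refine (Ideal.span_le.mpr ?_) (irrelevant_le_span_sA i hU hb)
  rintro _ ⟨j, rfl⟩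
  show sA i U j ∈ Ideal.map (φ0 i hU) ((pg.{u} N)₊).toIdeal
  rw [← φ0_X i hU]
  exact Ideal.mem_map_of_mem _ (HomogeneousIdeal.mem_irrelevant_of_mem _ one_pos (X_mem j))

/-- `Proj` of the algebra to `P^N_ℤ` -/
def toPZ : Proj (Dg i hU) ⟶ CohB1.ProjSpace N Z.{u} := Proj.map (φ0 i hU) (irrelevant_le_φ0 i hU)

/-- the structure map in degree zero -/
def strD : Γ(S, U) ⟶ CommRingCat.of (Dg i hU 0) := (Agr i).strZero U hU

/-- `Proj` of the algebra to the base -/
def toS : Proj (Dg i hU) ⟶ S := Proj.toSpecZero (Dg i hU) ≫ Spec.map (strD i hU) ≫ hU.fromSpec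

/-- `Proj` of the algebra to `P^N_S` -/
def Φ : Proj (Dg i hU) ⟶ CohB1.ProjSpaceOver N S :=
  pullback.lift (toPZ i hU) (toS i hU) (specULiftZIsTerminal.hom_ext _ _)

theorem Φ_prZ : Φ i hU ≫ prZ N S = toPZ i hU := pullback.lift_fst _ _ _

theorem Φ_toBase : Φ i hU ≫ CohB1.ProjSpaceOver.toBase N S = toS i hU := pullback.lift_snd _ _ _

/-- the chart of `Proj` -/
def aι : Spec (CommRingCat.of (Aw i hU k)) ⟶ Proj (Dg i hU) :=
  Proj.awayι (Dg i hU) _ (sA_mem_Dg i hU k) one_pos

theorem awayι_comp_toPZ (f : Asub i U) (hf : φ0 i hU (MvPolynomial.X k) = f)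
    (hfd : f ∈ (Dg i hU) 1) (α : A.{u} N k →+* HomogeneousLocalization.Away (Dg i hU) f)
    (hα : ∀ l, α (q k l) = HomogeneousLocalization.Away.mk (Dg i hU) hfd 1 (sA i U l)
      (by rw [one_smul]; exact sA_mem_Dg i hU l)) :
    Proj.awayι (Dg i hU) f hfd one_pos ≫ toPZ i hU = Spec.map (CommRingCat.ofHom α) ≫ qι k := by
  subst hf
  have : α = HomogeneousLocalization.Away.map (φ0 i hU) (MvPolynomial.X k) := by
    refine ringHom_ext fun l => ?_
    rw [hα, q, HomogeneousLocalization.Away.map_mk]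
    congr 1
    exact (φ0_X i hU l).symm
  rw [this]
  exact Proj.awayι_comp_map (φ0 i hU) (irrelevant_le_φ0 i hU) one_pos _ (X_mem k)

theorem aι_Φ : aι i hU k ≫ Φ i hU = ω i hU k ≫ i := by
  let e := RingEquiv.ofBijective _ (θ_bijective i hU k)
  let hW := isAffineOpen_W i k hU
  let χ : A.{u} N k →+* Γ(X, W i k U) :=
    (W i k U).topIso.hom.hom.comp (chartHom i k (W i k U) (W_le_Xo i k U))
  have hpf : hW.fromSpec ≫ pf i = Spec.map (CommRingCat.ofHom χ) ≫ qι k := by
    rw [← cancel_epi hW.isoSpec.hom, ← Category.assoc, hW.isoSpec_hom_fromSpec,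
      ← mor_chartHom i k (W i k U) (W_le_Xo i k U), mor, IsAffineOpen.isoSpec_hom, Scheme.Opens.toSpecΓ,
      Category.assoc]
    congr 1
    rw [← Category.assoc, ← Spec.map_comp]
    congr 2
    apply CommRingCat.hom_ext
    refine RingHom.ext fun z => ?_
    exact (Iso.hom_inv_id_apply (W i k U).topIso _).symm
  apply pullback.hom_ext
  · show (aι i hU k ≫ Φ i hU) ≫ prZ N S = (ω i hU k ≫ i) ≫ prZ N S
    rw [Category.assoc, Φ_prZ, Category.assoc]
    show aι i hU k ≫ toPZ i hU = ω i hU k ≫ pf i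
    rw [ω, Category.assoc, hpf, ← Category.assoc, ← Spec.map_comp, ← CommRingCat.ofHom_comp]
    refine awayι_comp_toPZ i hU k _ (φ0_X i hU k) (sA_mem_Dg i hU k) _ fun l => ?_
    rw [RingHom.comp_apply]
    show e.symm ((W i k U).topIso.hom (chartHom i k (W i k U) (W_le_Xo i k U) (q k l))) = _
    rw [chartHom_q, Iso.inv_hom_id_apply, ← ev_sA i hU k l,
      ← θ_mk i hU k 1 (sA i U l) (by rw [one_smul]; exact sA_mem_Dg i hU l)]
    exact θinv_θ i hU k _
  · show (aι i hU k ≫ Φ i hU) ≫ CohB1.ProjSpaceOver.toBase N S =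
      (ω i hU k ≫ i) ≫ CohB1.ProjSpaceOver.toBase N S
    rw [Category.assoc, Φ_toBase, Category.assoc, ω, Category.assoc, toS, aι,
      ← IsAffineOpen.SpecMap_appLE_fromSpec (strMap i) hU hW (W_le_pre i k U)]
    erw [Proj.awayι_toSpecZero_assoc]
    rw [← Spec.map_comp_assoc, ← Spec.map_comp_assoc]
    congr 2
    apply CommRingCat.hom_ext
    refine RingHom.ext fun r => ?_
    show HomogeneousLocalization.fromZeroRingHom (Dg i hU) _ ⟨strA i U r, strA_mem_Dg i hU r⟩ =
      e.symm ((strMap i).appLE U (W i k U) (W_le_pre i k U) r)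
    rw [← ev_strA i hU k r, ← θ_mk i hU k 0 (strA i U r) (by rw [zero_smul]; exact strA_mem_Dg i hU r)]
    refine Eq.trans ?_ (θinv_θ i hU k _).symm
    apply HomogeneousLocalization.val_injective
    rw [Groth.Ega2P2.val_fromZero, HomogeneousLocalization.Away.val_mk]
    exact congrArg₂ Localization.mk rfl (Subtype.ext (pow_zero _).symm)

/-- the cover of `Proj` by the coordinate charts -/
def aCov : (Proj (Dg i hU)).OpenCover :=
  (Proj.affineOpenCoverOfIrrelevantLESpan (Dg i hU) (fun j => (sA i U j : Asub i U))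
    (m := fun _ => 1) (fun j => sA_mem_Dg i hU j) (fun _ => one_pos) (irrelevant_le_span_sA i hU)).openCover

theorem exists_projChart : ∃ ψ : Proj (Dg i hU) ⟶ X, ψ ≫ i = Φ i hU ∧
    ∃ _ : IsOpenImmersion ψ, ψ.opensRange = strMap i ⁻¹ᵁ U := by
  have hover : ∀ j l : Fin (N + 1), pullback.fst (aι i hU j) (aι i hU l) ≫ ω i hU j =
      pullback.snd (aι i hU j) (aι i hU l) ≫ ω i hU l := by
    intro j l
    rw [← cancel_mono i, Category.assoc, Category.assoc, ← aι_Φ, ← aι_Φ, ← Category.assoc,
      pullback.condition, Category.assoc]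
  let ψ : Proj (Dg i hU) ⟶ X := (aCov i hU).glueMorphisms (fun j => ω i hU j) hover
  have hψ : ∀ j, aι i hU j ≫ ψ = ω i hU j := fun j => (aCov i hU).ι_glueMorphisms _ hover j
  have hψi : ψ ≫ i = Φ i hU := by
    refine (aCov i hU).hom_ext _ _ fun j => ?_
    show aι i hU j ≫ ψ ≫ i = aι i hU j ≫ Φ i hU
    rw [reassoc_of% (hψ j)]; exact (aι_Φ i hU j).symm
  have hpre : ∀ j, ψ ⁻¹ᵁ Xo i j = Proj.basicOpen (Dg i hU) (sA i U j) := by
    intro j
    rw [Xo, ← Scheme.Hom.comp_preimage, show ψ ≫ pf i = toPZ i hU by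
      rw [pf, reassoc_of% hψi, Φ_prZ]]
    show Proj.map (φ0 i hU) (irrelevant_le_φ0 i hU) ⁻¹ᵁ (Proj.awayι _ _ _ _).opensRange = _
    rw [Proj.opensRange_awayι, Proj.map_preimage_basicOpen, φ0_X]
  have hmem : ∀ z, ψ z ∈ strMap i ⁻¹ᵁ U := fun z => by
    show (ψ ≫ strMap i) z ∈ U
    rw [strMap, reassoc_of% hψi, Φ_toBase, toS]
    exact hU.range_fromSpec.subset ⟨_, rfl⟩
  let T := strMap i ⁻¹ᵁ U
  let ψ' : Proj (Dg i hU) ⟶ T.toScheme := IsOpenImmersion.lift T.ι ψ (by
    rintro _ ⟨z, rfl⟩; rw [Scheme.Opens.range_ι]; exact hmem z)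
  have hψ' : ψ' ≫ T.ι = ψ := IsOpenImmersion.lift_fac _ _ _
  have hω : ∀ j, Set.range (ω i hU j) ⊆ Set.range T.ι := fun j => by
    haveI := isOpenImmersion_ω i hU j
    rw [Scheme.Opens.range_ι, ← Scheme.Hom.coe_opensRange, opensRange_ω]
    exact W_le_pre i j U
  let ω' := fun j => IsOpenImmersion.lift T.ι (ω i hU j) (hω j)
  have hω' : ∀ j, ω' j ≫ T.ι = ω i hU j := fun j => IsOpenImmersion.lift_fac _ _ _
  haveI hoi : ∀ j, IsOpenImmersion (ω' j) := fun j => by
    haveI := isOpenImmersion_ω i hU j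
    haveI : IsOpenImmersion (ω' j ≫ T.ι) := by rw [hω']; infer_instance
    exact IsOpenImmersion.of_comp _ T.ι
  have hran : ∀ j (z : T.toScheme), T.ι z ∈ Xo i j → z ∈ Set.range (ω' j) := by
    intro j z hz
    haveI := isOpenImmersion_ω i hU j
    obtain ⟨w, hw⟩ : T.ι z ∈ (ω i hU j).opensRange := by rw [opensRange_ω]; exact ⟨hz, z.2⟩
    refine ⟨w, T.ι.isOpenEmbedding.injective ?_⟩
    show (ω' j ≫ T.ι) w = T.ι z
    rw [hω']; exact hw
  let cT : T.toScheme.OpenCover :=
    { I₀ := Fin (N + 1), X := fun j => Spec (CommRingCat.of (Aw i hU j)), f := ω'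
      mem₀ := by
        rw [Scheme.presieve₀_mem_precoverage_iff]
        refine ⟨fun z => ?_, hoi⟩
        obtain ⟨j, hj⟩ := Opens.mem_iSup.mp ((iSup_Xo i).ge (Set.mem_univ (T.ι z)))
        exact ⟨j, hran j z hj⟩ }
  have hiso : IsIso ψ' := by
    refine IsZariskiLocalAtTarget.of_openCover (P := MorphismProperty.isomorphisms Scheme.{u}) cT fun j => ?_
    have H : IsPullback (𝟙 _) (aι i hU j) (ω' j) ψ' := by
      haveI : IsOpenImmersion (aι i hU j) := by unfold aι; infer_instance
      refine IsOpenImmersion.isPullback _ _ _ _ ?_ ?_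
      · rw [← cancel_mono T.ι, Category.id_comp, Category.assoc, hψ', hψ, hω']
      · refine Opens.ext (Set.ext fun z => ?_)
        show ψ' z ∈ Set.range (ω' j) ↔ z ∈ Set.range (aι i hU j)
        have hb : z ∈ Set.range (aι i hU j) ↔ z ∈ ψ ⁻¹ᵁ Xo i j := by
          rw [hpre, ← Proj.opensRange_awayι (Dg i hU) _ (sA_mem_Dg i hU j) one_pos]
          rfl
        have e : T.ι (ψ' z) = ψ z := congrArg (fun t : Proj (Dg i hU) ⟶ X => t z) hψ'
        rw [hb]
        refine Iff.symm ⟨fun hz => hran j _ ?_, ?_⟩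
        · rw [e]; exact hz
        · rintro ⟨w, hw⟩
          show ψ z ∈ Xo i j
          rw [← e, ← hw]
          show (ω' j ≫ T.ι) w ∈ Xo i j
          rw [hω']
          haveI := isOpenImmersion_ω i hU j
          have : ω i hU j w ∈ W i j U := (opensRange_ω i hU j).le ⟨w, rfl⟩
          exact this.1
    show IsIso (pullback.snd ψ' (ω' j))
    have hh := H.flip.isoPullback_hom_snd
    rw [show pullback.snd ψ' (ω' j) = H.flip.isoPullback.inv by
      rw [← Category.id_comp (pullback.snd ψ' (ω' j)), ← H.flip.isoPullback.inv_hom_id, Category.assoc, hh,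
        Category.comp_id]]
    infer_instance
  haveI hoψ : IsOpenImmersion ψ := by rw [← hψ']; infer_instance
  refine ⟨ψ, hψi, hoψ, le_antisymm ?_ ?_⟩
  · rintro _ ⟨z, rfl⟩; exact hmem z
  · intro x hx
    obtain ⟨z, hz⟩ := ψ'.homeomorph.surjective ⟨x, hx⟩
    exact ⟨z, (congrArg (fun t : Proj (Dg i hU) ⟶ X => t z) hψ').symm.trans (congrArg (fun w : T.toScheme => T.ι w) hz)⟩

end affine

/-- restriction of the graded algebras -/
def resD {U : S.Opens} (hU : IsAffineOpen U) (r : Γ(S, U)) : Dg i hU →+*ᵍ Dg i (hU.basicOpen r) :=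
  (Agr i).res hU (hU.basicOpen r) (S.basicOpen_le r)

theorem resD_irrelevant {U : S.Opens} (hU : IsAffineOpen U) (r : Γ(S, U)) :
    (Dg i (hU.basicOpen r))₊ ≤ ((Dg i hU)₊).map (resD i hU r) :=
  (Agr i).irrelevant_le_map U hU r

theorem Φ_res {U : S.Opens} (hU : IsAffineOpen U) (r : Γ(S, U)) :
    Proj.map (resD i hU r) (resD_irrelevant i hU r) ≫ Φ i hU = Φ i (hU.basicOpen r) := by
  let ρ := resD i hU r
  let hρ := resD_irrelevant i hU r
  apply pullback.hom_ext
  · show (Proj.map ρ hρ ≫ Φ i hU) ≫ prZ N S = Φ i (hU.basicOpen r) ≫ prZ N S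
    rw [Category.assoc, Φ_prZ, Φ_prZ, toPZ, toPZ]
    refine (Proj.map_comp (φ0 i hU) ρ (irrelevant_le_φ0 i hU) hρ).symm.trans ?_
    have : ρ.comp (φ0 i hU) = φ0 i (hU.basicOpen r) := by
      apply DFunLike.ext
      intro p
      show resA i (S.basicOpen_le r) (MvPolynomial.eval₂Hom (castZ _) (sA i U) p) =
        MvPolynomial.eval₂Hom (castZ _) (sA i (S.basicOpen r)) p
      refine RingHom.congr_fun (MvPolynomial.ringHom_ext' (ringHom_Z_ext _ _) fun j => ?_ :
        (resA i (S.basicOpen_le r)).comp (MvPolynomial.eval₂Hom (castZ _) (sA i U)) =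
          MvPolynomial.eval₂Hom (castZ _) (sA i (S.basicOpen r))) p
      rw [RingHom.comp_apply, MvPolynomial.eval₂Hom_X', MvPolynomial.eval₂Hom_X']
      exact Subtype.ext (rB_sB i (S.basicOpen_le r) j)
    congr 1
  · show (Proj.map ρ hρ ≫ Φ i hU) ≫ CohB1.ProjSpaceOver.toBase N S =
      Φ i (hU.basicOpen r) ≫ CohB1.ProjSpaceOver.toBase N S
    rw [Category.assoc, Φ_toBase, Φ_toBase, toS, toS, reassoc_of% (Groth.Ega2P2.map_toSpecZero ρ hρ)]
    congr 1
    rw [← Spec.map_comp_assoc, ← hU.map_fromSpec (hU.basicOpen r) (homOfLE (S.basicOpen_le r)).op,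
      ← Spec.map_comp_assoc]
    congr 2
    apply CommRingCat.hom_ext
    exact RingHom.ext fun z => Subtype.ext (Subtype.ext (rB_strB i (S.basicOpen_le r) z))

theorem isProjective : RelProj.IsProjective (strMap i) := by
  choose ψ hψi hoi hran using fun (U : S.Opens) (hU : IsAffineOpen U) => exists_projChart i hU
  let chart : ∀ (U : S.Opens) (hU : IsAffineOpen U),
      ((strMap i ⁻¹ᵁ U : X.Opens) : Scheme.{u}) ≅ Proj (Dg i hU) := fun U hU =>
    haveI := hoi U hU
    IsOpenImmersion.isoOfRangeEq (strMap i ⁻¹ᵁ U).ι (ψ U hU) (by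
      rw [Scheme.Opens.range_ι, ← hran U hU]; rfl)
  have hchart : ∀ U hU, (chart U hU).hom ≫ ψ U hU = (strMap i ⁻¹ᵁ U).ι := fun U hU =>
    IsOpenImmersion.isoOfRangeEq_hom_fac ..
  refine ⟨Agr i, X, strMap i, chart, Iso.refl X, Agr_isGenDegOne i, Agr_isFTDeg i, ⟨?_, ?_⟩,
    Category.id_comp _⟩
  · intro U hU
    refine ((congrArg (· ≫ strMap i) (hchart U hU).symm).trans ((Category.assoc _ _ _).trans ?_)).symm
    refine congrArg ((chart U hU).hom ≫ ·) (Eq.symm ?_)
    show _ = ψ U hU ≫ strMap i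
    rw [strMap, reassoc_of% (hψi U hU), Φ_toBase]
    rfl
  · intro U hU r
    haveI := hoi U hU
    have hle : strMap i ⁻¹ᵁ S.basicOpen r ≤ strMap i ⁻¹ᵁ U := fun _ hx => S.basicOpen_le r hx
    have key : (chart (S.basicOpen r) (hU.basicOpen r)).hom ≫ Proj.map (resD i hU r) (resD_irrelevant i hU r) =
        X.homOfLE hle ≫ (chart U hU).hom := by
      rw [← cancel_mono (ψ U hU), Category.assoc, Category.assoc, hchart, X.homOfLE_ι,
        ← hchart _ (hU.basicOpen r)]
      congr 1
      rw [← cancel_mono i, Category.assoc, hψi, hψi]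
      exact Φ_res i hU r
    exact key.symm

end

end Groth.Chow.PEmb
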