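import Groth.Agent.Chow.ProjEmb.Data
import Groth.Prelude.Def_RelProj

/-! The graded algebra of a closed subscheme of `P^N_S`. -/

set_option linter.style.haveILetI false
universe u

open CategoryTheory CategoryTheory.Limits AlgebraicGeometry TopologicalSpace Opposite

namespace Groth.Chow.PEmb

noncomputable section

variable {X S : Scheme.{u}} {N : ℕ} (i : X ⟶ CohB1.ProjSpaceOver N S)

/-- families of power series on the standard opens -/
abbrev BB (U : S.Opens) : Type u := ∀ k : Fin (N + 1), PowerSeries Γ(X, W i k U)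

/-- restriction -/
def rB {U V : S.Opens} (h : V ≤ U) : BB i U →+* BB i V :=
  RingHom.pi fun k => (PowerSeries.map (X.presheaf.map (homOfLE (W_mono i k h)).op).hom).comp
    (Pi.evalRingHom _ k)

theorem coeff_rB {U V : S.Opens} (h : V ≤ U) (a : BB i U) (k : Fin (N + 1)) (d : ℕ) :
    PowerSeries.coeff d (rB i h a k) =
      X.presheaf.map (homOfLE (W_mono i k h)).op (PowerSeries.coeff d (a k)) :=
  PowerSeries.coeff_map _ _ _

theorem ext_coeff {U : S.Opens} {a b : BB i U}
    (h : ∀ k d, PowerSeries.coeff d (a k) = PowerSeries.coeff d (b k)) : a = b :=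
  funext fun k => PowerSeries.ext fun d => h k d

theorem rB_rB {U V V' : S.Opens} (h : V ≤ U) (h' : V' ≤ V) (a : BB i U) :
    rB i h' (rB i h a) = rB i (h'.trans h) a := by
  refine ext_coeff i fun k d => ?_
  rw [coeff_rB, coeff_rB, coeff_rB, ← CommRingCat.comp_apply, ← Functor.map_comp]
  rfl

theorem rB_refl {U : S.Opens} (a : BB i U) : rB i (le_refl U) a = a := by
  refine ext_coeff i fun k d => ?_
  rw [coeff_rB, show (homOfLE (W_mono i k (le_refl U))).op = 𝟙 _ from Subsingleton.elim _ _,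
    CategoryTheory.Functor.map_id]
  rfl

/-- structure map -/
def strB (U : S.Opens) : Γ(S, U) →+* BB i U :=
  RingHom.pi fun k => PowerSeries.C.comp ((strMap i).appLE U (W i k U) (W_le_pre i k U)).hom

/-- the coordinate sections -/
def sB (U : S.Opens) (j : Fin (N + 1)) : BB i U :=
  fun k => PowerSeries.C (coordOn i k j (W i k U) (W_le_Xo i k U)) * PowerSeries.X

theorem strB_apply {U : S.Opens} (r : Γ(S, U)) (k : Fin (N + 1)) :
    strB i U r k = PowerSeries.C ((strMap i).appLE U (W i k U) (W_le_pre i k U) r) := rfl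

theorem rB_strB {U V : S.Opens} (h : V ≤ U) (r : Γ(S, U)) :
    rB i h (strB i U r) = strB i V (S.presheaf.map (homOfLE h).op r) := by
  funext k
  show PowerSeries.map _ (PowerSeries.C _) = PowerSeries.C _
  rw [PowerSeries.map_C]
  congr 1
  rw [← CommRingCat.comp_apply, Scheme.Hom.appLE_map]
  show _ = (S.presheaf.map (homOfLE h).op ≫ (strMap i).appLE V (W i k V) (W_le_pre i k V)) r
  rw [Scheme.Hom.map_appLE]

theorem rB_sB {U V : S.Opens} (h : V ≤ U) (j : Fin (N + 1)) : rB i h (sB i U j) = sB i V j := by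
  funext k
  show PowerSeries.map (X.presheaf.map (homOfLE (W_mono i k h)).op).hom
    (PowerSeries.C (coordOn i k j (W i k U) (W_le_Xo i k U)) * PowerSeries.X) =
      PowerSeries.C (coordOn i k j (W i k V) (W_le_Xo i k V)) * PowerSeries.X
  rw [map_mul, PowerSeries.map_C, PowerSeries.map_X]
  congr 2
  exact map_coordOn i k j _ _

/-- the algebra generated by the base and the coordinates -/
def gen (U : S.Opens) : Subring (BB i U) :=
  Subring.closure (Set.range (strB i U) ∪ Set.range (sB i U))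

theorem strB_mem {U : S.Opens} (r : Γ(S, U)) : strB i U r ∈ gen i U :=
  Subring.subset_closure (Or.inl ⟨r, rfl⟩)

theorem sB_mem {U : S.Opens} (j : Fin (N + 1)) : sB i U j ∈ gen i U :=
  Subring.subset_closure (Or.inr ⟨j, rfl⟩)

theorem rB_mem_gen {U V : S.Opens} (h : V ≤ U) {a : BB i U} (ha : a ∈ gen i U) : rB i h a ∈ gen i V := by
  have : gen i U ≤ (gen i V).comap (rB i h) := by
    rw [gen, Subring.closure_le]
    rintro _ (⟨r, rfl⟩ | ⟨j, rfl⟩)
    · show rB i h _ ∈ gen i V
      rw [rB_strB]; exact strB_mem i _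
    · show rB i h _ ∈ gen i V
      rw [rB_sB]; exact sB_mem i _
  exact this ha

/-- locally in the generated algebra -/
def Loc (U : S.Opens) (a : BB i U) : Prop :=
  ∀ x ∈ U, ∃ (V : S.Opens) (h : V ≤ U), IsAffineOpen V ∧ x ∈ V ∧ rB i h a ∈ gen i V

theorem exists_affine_le {U : S.Opens} {x : S} (hx : x ∈ U) :
    ∃ V : S.Opens, IsAffineOpen V ∧ x ∈ V ∧ V ≤ U := by
  obtain ⟨_, ⟨V, hV, rfl⟩, hxV, hVU⟩ := S.isBasis_affineOpens.exists_subset_of_mem_open hx U.isOpen
  exact ⟨V, hV, hxV, hVU⟩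

theorem loc_of_gen {U : S.Opens} {a : BB i U} (ha : a ∈ gen i U) : Loc i U a := fun x hx => by
  obtain ⟨V, hV, hxV, hVU⟩ := exists_affine_le hx
  exact ⟨V, hVU, hV, hxV, rB_mem_gen i hVU ha⟩

theorem loc_rB {U V : S.Opens} (h : V ≤ U) {a : BB i U} (ha : Loc i U a) : Loc i V (rB i h a) := by
  intro x hx
  obtain ⟨V₁, h₁, -, hx₁, hg⟩ := ha x (h hx)
  obtain ⟨V₂, hV₂, hx₂, hle⟩ := exists_affine_le (U := V₁ ⊓ V) (x := x) ⟨hx₁, hx⟩
  refine ⟨V₂, hle.trans inf_le_right, hV₂, hx₂, ?_⟩
  rw [rB_rB]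
  have := rB_mem_gen i (hle.trans inf_le_left) hg
  rwa [rB_rB] at this

theorem loc_op {U : S.Opens} (op' : ∀ V, BB i V → BB i V → BB i V)
    (hop : ∀ V a b, a ∈ gen i V → b ∈ gen i V → op' V a b ∈ gen i V)
    (hr : ∀ V (h : V ≤ U) a b, rB i h (op' U a b) = op' V (rB i h a) (rB i h b))
    {a b : BB i U} (ha : Loc i U a) (hb : Loc i U b) : Loc i U (op' U a b) := by
  intro x hx
  obtain ⟨V₁, h₁, -, hx₁, hg₁⟩ := ha x hx
  obtain ⟨V₂, h₂, -, hx₂, hg₂⟩ := hb x hx
  obtain ⟨V, hV, hxV, hle⟩ := exists_affine_le (U := V₁ ⊓ V₂) (x := x) ⟨hx₁, hx₂⟩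
  refine ⟨V, (hle.trans inf_le_left).trans h₁, hV, hxV, ?_⟩
  rw [hr]
  refine hop _ _ _ ?_ ?_
  · have := rB_mem_gen i (hle.trans inf_le_left) hg₁
    rwa [rB_rB] at this
  · have := rB_mem_gen i (hle.trans inf_le_right) hg₂
    rwa [rB_rB] at this

/-- sections of the algebra -/
def Asub (U : S.Opens) : Subring (BB i U) where
  carrier := {a | Loc i U a}
  one_mem' := loc_of_gen i (one_mem _)
  zero_mem' := loc_of_gen i (zero_mem _)
  mul_mem' ha hb := loc_op i (fun _ a b => a * b) (fun _ _ _ => mul_mem) (fun _ _ _ _ => map_mul _ _ _) ha hb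
  add_mem' ha hb := loc_op i (fun _ a b => a + b) (fun _ _ _ => add_mem) (fun _ _ _ _ => map_add _ _ _) ha hb
  neg_mem' {a} ha := fun x hx => by
    obtain ⟨V, h, hV, hxV, hg⟩ := ha x hx
    exact ⟨V, h, hV, hxV, by rw [map_neg]; exact neg_mem hg⟩

/-- bounded degree -/
def Bdd {U : S.Opens} (a : BB i U) : Prop :=
  ∃ n : ℕ, ∀ k d, n ≤ d → PowerSeries.coeff d (a k) = 0

theorem bdd_gen {U : S.Opens} {a : BB i U} (ha : a ∈ gen i U) : Bdd i a := by
  induction ha using Subring.closure_induction with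
  | mem a ha =>
    refine ⟨2, fun k d hd => ?_⟩
    rcases ha with ⟨r, rfl⟩ | ⟨j, rfl⟩
    · rw [strB_apply, PowerSeries.coeff_C, if_neg (by omega)]
    · rw [sB, PowerSeries.coeff_C_mul, PowerSeries.coeff_X, if_neg (by omega), mul_zero]
  | zero => exact ⟨0, fun k d _ => by simp⟩
  | one => exact ⟨1, fun k d hd => by simp [PowerSeries.coeff_one]; omega⟩
  | add a b _ _ ha hb =>
    obtain ⟨n, hn⟩ := ha; obtain ⟨m, hm⟩ := hb
    exact ⟨max n m, fun k d hd => by
      rw [Pi.add_apply, map_add, hn k d (by omega), hm k d (by omega), add_zero]⟩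
  | neg a _ ha =>
    obtain ⟨n, hn⟩ := ha
    exact ⟨n, fun k d hd => by rw [Pi.neg_apply, map_neg, hn k d hd, neg_zero]⟩
  | mul a b _ _ ha hb =>
    obtain ⟨n, hn⟩ := ha; obtain ⟨m, hm⟩ := hb
    refine ⟨n + m, fun k d hd => ?_⟩
    rw [Pi.mul_apply, PowerSeries.coeff_mul]
    refine Finset.sum_eq_zero fun p hp => ?_
    rw [Finset.HasAntidiagonal.mem_antidiagonal] at hp
    rcases le_or_gt n p.1 with h | h
    · rw [hn k p.1 h, zero_mul]
    · rw [hm k p.2 (by omega), mul_zero]

theorem bdd_loc {U : S.Opens} (hU : IsAffineOpen U) {a : BB i U} (ha : Loc i U a) : Bdd i a := by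
  choose V hVU hV hxV hg using ha
  obtain ⟨t, ht⟩ := hU.isCompact.elim_finite_subcover (fun x : U => ((V x.1 x.2) : Set S))
    (fun x => (V x.1 x.2).isOpen) (fun x hx => Set.mem_iUnion.mpr ⟨⟨x, hx⟩, hxV x hx⟩)
  choose n hn using fun x : U => bdd_gen i (hg x.1 x.2)
  refine ⟨t.sup n, fun k d hd => ?_⟩
  refine X.sheaf.eq_of_locally_eq' (fun x : t => W i k (V x.1.1 x.1.2)) _
    (fun x => homOfLE (W_mono i k (hVU x.1.1 x.1.2))) ?_ _ _ fun x => ?_
  · intro z hz
    obtain ⟨x, hx⟩ := Set.mem_iUnion.mp (ht (W_le_pre i k U hz))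
    obtain ⟨hxt, hzx⟩ := Set.mem_iUnion.mp hx
    exact Opens.mem_iSup.mpr ⟨⟨x, hxt⟩, hz.1, hzx⟩
  · have h2 := hn x.1 k d ((Finset.le_sup x.2).trans hd)
    rw [coeff_rB] at h2
    exact h2.trans (map_zero _).symm

theorem exists_num {U : S.Opens} (hU : IsAffineOpen U) (r : Γ(S, U)) {z : BB i (S.basicOpen r)}
    (hz : z ∈ gen i (S.basicOpen r)) :
    ∃ (n : ℕ) (g : BB i U), g ∈ gen i U ∧
      rB i (S.basicOpen_le r) (strB i U r) ^ n * z = rB i (S.basicOpen_le r) g := by
  induction hz using Subring.closure_induction with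
  | mem z hz =>
    rcases hz with ⟨w, rfl⟩ | ⟨j, rfl⟩
    · haveI := hU.isLocalization_basicOpen r
      obtain ⟨⟨v, _, n, rfl⟩, hv⟩ := IsLocalization.surj (Submonoid.powers r) w
      refine ⟨n, strB i U v, strB_mem i _, ?_⟩
      rw [rB_strB, rB_strB, ← map_pow, ← map_mul]
      congr 1
      rw [← map_pow, mul_comm]
      exact hv
    · exact ⟨0, sB i U j, sB_mem i j, by rw [pow_zero, one_mul, rB_sB]⟩
  | zero => exact ⟨0, 0, zero_mem _, by simp⟩
  | one => exact ⟨0, 1, one_mem _, by simp⟩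
  | add a b _ _ ha hb =>
    obtain ⟨n, g, hg, e⟩ := ha; obtain ⟨m, g', hg', e'⟩ := hb
    refine ⟨n + m, strB i U r ^ m * g + strB i U r ^ n * g',
      add_mem (mul_mem (pow_mem (strB_mem i r) _) hg) (mul_mem (pow_mem (strB_mem i r) _) hg'), ?_⟩
    rw [map_add, map_mul, map_mul, map_pow, map_pow, ← e, ← e', pow_add]
    ring
  | neg a _ ha =>
    obtain ⟨n, g, hg, e⟩ := ha
    exact ⟨n, -g, neg_mem hg, by rw [map_neg, ← e, mul_neg]⟩
  | mul a b _ _ ha hb =>
    obtain ⟨n, g, hg, e⟩ := ha; obtain ⟨m, g', hg', e'⟩ := hb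
    exact ⟨n + m, g * g', mul_mem hg hg', by rw [map_mul, ← e, ← e', pow_add]; ring⟩

section
variable [IsClosedImmersion i]

theorem exists_kill {U : S.Opens} (hU : IsAffineOpen U) (r : Γ(S, U)) {a : BB i U} (ha : Bdd i a)
    (h0 : rB i (S.basicOpen_le r) a = 0) : ∃ n : ℕ, strB i U r ^ n * a = 0 := by
  obtain ⟨n, hn⟩ := ha
  have key : ∀ k d, ∃ m : ℕ,
      ((strMap i).appLE U (W i k U) (W_le_pre i k U) r) ^ m * PowerSeries.coeff d (a k) = 0 := by
    intro k d
    have h1 := congrArg (fun z : BB i (S.basicOpen r) => PowerSeries.coeff d (z k)) h0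
    simp only [coeff_rB, Pi.zero_apply, map_zero] at h1
    letI : Algebra Γ(X, W i k U) Γ(X, W i k (S.basicOpen r)) :=
      (X.presheaf.map (homOfLE (W_mono i k (S.basicOpen_le r))).op).hom.toAlgebra
    haveI := (isAffineOpen_W i k hU).isLocalization_of_eq_basicOpen
      ((strMap i).appLE U (W i k U) (W_le_pre i k U) r)
      (homOfLE (W_mono i k (S.basicOpen_le r))) (W_basicOpen i k r)
    obtain ⟨⟨_, m, rfl⟩, hm⟩ :=
      (IsLocalization.map_eq_zero_iff (Submonoid.powers ((strMap i).appLE U (W i k U) (W_le_pre i k U) r))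
        Γ(X, W i k (S.basicOpen r)) (PowerSeries.coeff d (a k))).mp h1
    exact ⟨m, hm⟩
  choose m hm using key
  let M := Finset.univ.sup fun k => (Finset.range n).sup (m k)
  refine ⟨M, ext_coeff i fun k d => ?_⟩
  rw [Pi.mul_apply, Pi.pow_apply, strB_apply, ← map_pow, PowerSeries.coeff_C_mul, Pi.zero_apply, map_zero]
  rcases lt_or_ge d n with h | h
  · have hle : m k d ≤ M :=
      (Finset.le_sup (f := m k) (Finset.mem_range.mpr h)).trans
        (Finset.le_sup (f := fun k => (Finset.range n).sup (m k)) (Finset.mem_univ k))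
    obtain ⟨t, ht⟩ := Nat.exists_eq_add_of_le hle
    rw [ht, pow_add, mul_comm (_ ^ m k d), mul_assoc, hm, mul_zero]
  · rw [hn k d h, mul_zero]

/-- over affine opens the local sections are generated -/
theorem mem_gen_of_loc {U : S.Opens} (hU : IsAffineOpen U) {a : BB i U} (ha : Loc i U a) :
    a ∈ gen i U := by
  let I : Ideal Γ(S, U) :=
    { carrier := {r | strB i U r * a ∈ gen i U}
      zero_mem' := by simp
      add_mem' := fun {r r'} hr hr' => by
        show strB i U (r + r') * a ∈ gen i U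
        rw [map_add, add_mul]; exact add_mem hr hr'
      smul_mem' := fun c r hr => by
        show strB i U (c * r) * a ∈ gen i U
        rw [map_mul, mul_assoc]; exact mul_mem (strB_mem i c) hr }
  let G : Set Γ(S, U) := {r | rB i (S.basicOpen_le r) a ∈ gen i (S.basicOpen r)}
  have hG : Ideal.span G = ⊤ := by
    rw [← hU.self_le_iSup_basicOpen_iff]
    intro x hx
    obtain ⟨V, hVU, hV, hxV, hg⟩ := ha x hx
    obtain ⟨r, hr, hxr⟩ := hU.exists_basicOpen_le (V := V) ⟨x, hxV⟩ hx
    have hrG : r ∈ G := by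
      have := rB_mem_gen i hr hg
      rwa [rB_rB] at this
    exact Opens.mem_iSup.mpr ⟨⟨r, hrG⟩, hxr⟩
  have hrad : I.radical = ⊤ := by
    rw [eq_top_iff, ← hG, Ideal.span_le]
    intro r hr
    obtain ⟨n, g, hg, e⟩ := exists_num i hU r hr
    obtain ⟨n₁, hn₁⟩ := bdd_loc i hU ha
    obtain ⟨n₂, hn₂⟩ := bdd_gen i hg
    have hb : Bdd i (strB i U r ^ n * a - g) := ⟨max n₁ n₂, fun k d hd => by
      rw [Pi.sub_apply, Pi.mul_apply, Pi.pow_apply, strB_apply, ← map_pow, map_sub,
        PowerSeries.coeff_C_mul, hn₁ k d (by omega), hn₂ k d (by omega), mul_zero, sub_zero]⟩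
    obtain ⟨m, hm⟩ := exists_kill i hU r hb (by rw [map_sub, map_mul, map_pow, e, sub_self])
    rw [mul_sub, sub_eq_zero, ← mul_assoc, ← pow_add, ← map_pow] at hm
    refine ⟨m + n, ?_⟩
    show strB i U (r ^ (m + n)) * a ∈ gen i U
    rw [hm]
    exact mul_mem (pow_mem (strB_mem i r) _) hg
  have : (1 : Γ(S, U)) ∈ I := (Ideal.eq_top_iff_one _).mp (Ideal.radical_eq_top.mp hrad)
  have h2 : strB i U 1 * a ∈ gen i U := this
  rwa [map_one, one_mul] at h2

end

/-- restriction of sections -/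
def resA {U V : S.Opens} (h : V ≤ U) : Asub i U →+* Asub i V :=
  ((rB i h).comp (Asub i U).subtype).codRestrict _ fun a => loc_rB i h a.2

/-- the presheaf -/
def Apre : TopCat.Presheaf CommRingCat.{u} S.carrier where
  obj U := CommRingCat.of (Asub i U.unop)
  map {U V} f := CommRingCat.ofHom (resA i f.unop.le)
  map_id U := CommRingCat.hom_ext (RingHom.ext fun a => Subtype.ext (rB_refl i a.1))
  map_comp {U V W'} f g :=
    CommRingCat.hom_ext (RingHom.ext fun a => Subtype.ext (rB_rB i f.unop.le g.unop.le a.1).symm)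

theorem Apre_isSheaf : (Apre i).IsSheaf := by
  rw [TopCat.Presheaf.isSheaf_iff_isSheafUniqueGluing]
  intro ι U sf hsf
  have hk : ∀ (k : Fin (N + 1)) (d : ℕ), ∃! c : Γ(X, W i k (iSup U)),
      ∀ α, X.presheaf.map (homOfLE (W_mono i k (le_iSup U α))).op c =
        PowerSeries.coeff d ((sf α : Asub i (U α)).1 k) := by
    intro k d
    refine X.sheaf.existsUnique_gluing' (fun α => W i k (U α)) _
      (fun α => homOfLE (W_mono i k (le_iSup U α))) ?_ _ fun α β => ?_
    · intro z hz
      obtain ⟨α, hα⟩ := Opens.mem_iSup.mp (W_le_pre i k _ hz)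
      exact Opens.mem_iSup.mpr ⟨α, hz.1, hα⟩
    · have h := congrArg (fun w : Asub i (U α ⊓ U β) => PowerSeries.coeff d (w.1 k)) (hsf α β)
      change PowerSeries.coeff d (rB i inf_le_left (sf α : Asub i (U α)).1 k) =
        PowerSeries.coeff d (rB i inf_le_right (sf β : Asub i (U β)).1 k) at h
      rw [coeff_rB, coeff_rB] at h
      have hle : W i k (U α) ⊓ W i k (U β) ≤ W i k (U α ⊓ U β) :=
        fun z hz => ⟨hz.1.1, hz.1.2, hz.2.2⟩
      have h' := congrArg (X.presheaf.map (homOfLE hle).op) h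
      rw [← CommRingCat.comp_apply, ← CommRingCat.comp_apply, ← Functor.map_comp,
        ← Functor.map_comp] at h'
      exact h'
  choose c hc huniq using hk
  let s : BB i (iSup U) := fun k => PowerSeries.mk (c k)
  have hs : ∀ α, rB i (le_iSup U α) s = (sf α : Asub i (U α)).1 := fun α =>
    ext_coeff i fun k d => by rw [coeff_rB, PowerSeries.coeff_mk]; exact hc k d α
  have hloc : Loc i (iSup U) s := by
    intro x hx
    obtain ⟨α, hα⟩ := Opens.mem_iSup.mp hx
    obtain ⟨V, hV, hVa, hxV, hg⟩ := (sf α : Asub i (U α)).2 x hα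
    refine ⟨V, hV.trans (le_iSup U α), hVa, hxV, ?_⟩
    rw [← hs, rB_rB] at hg
    exact hg
  refine ⟨(⟨s, hloc⟩ : Asub i (iSup U)), fun α => Subtype.ext (hs α), fun t ht => Subtype.ext ?_⟩
  refine ext_coeff i fun k d => ?_
  rw [PowerSeries.coeff_mk]
  refine huniq k d _ fun α => ?_
  have := congrArg (fun w : Asub i (U α) => PowerSeries.coeff d (w.1 k)) (ht α)
  change PowerSeries.coeff d (rB i (le_iSup U α) (t : Asub i (iSup U)).1 k) = _ at this
  rwa [coeff_rB] at this

/-- structure map into sections -/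
def strA (U : S.Opens) : Γ(S, U) →+* Asub i U :=
  (strB i U).codRestrict _ fun r => loc_of_gen i (strB_mem i r)

/-- coordinate sections -/
def sA (U : S.Opens) (j : Fin (N + 1)) : Asub i U := ⟨sB i U j, loc_of_gen i (sB_mem i j)⟩

/-- the structure map -/
def Astr : S.presheaf ⟶ Apre i where
  app U := CommRingCat.ofHom (strA i U.unop)
  naturality U V f :=
    CommRingCat.hom_ext (RingHom.ext fun r => Subtype.ext (rB_strB i f.unop.le r).symm)

section
variable [IsClosedImmersion i]

theorem Apre_isQC : RelSpec.IsQC (Apre i) (Astr i) := by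
  intro U hU r
  letI : Algebra (Asub i U) (Asub i (S.basicOpen r)) := (resA i (S.basicOpen_le r)).toAlgebra
  show IsLocalization.Away (strA i U r) (Asub i (S.basicOpen r))
  constructor; constructor
  · rintro ⟨_, n, rfl⟩
    rw [map_pow]
    refine IsUnit.pow _ ?_
    show IsUnit (resA i (S.basicOpen_le r) (strA i U r))
    have : resA i (S.basicOpen_le r) (strA i U r) =
        strA i (S.basicOpen r) (S.presheaf.map (homOfLE (S.basicOpen_le r)).op r) :=
      Subtype.ext (rB_strB i _ r)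
    rw [this]
    exact IsUnit.map _ (RingedSpace.isUnit_res_basicOpen _ r)
  · intro z
    obtain ⟨n, g, hg, e⟩ := exists_num i hU r (mem_gen_of_loc i (hU.basicOpen r) z.2)
    refine ⟨⟨⟨g, loc_of_gen i hg⟩, ⟨_, n, rfl⟩⟩, Subtype.ext ?_⟩
    rw [mul_comm] at e
    simp only [map_pow]
    exact e
  · intro a b hab
    have h0 : rB i (S.basicOpen_le r) (a.1 - b.1) = 0 := by
      rw [map_sub, sub_eq_zero]
      exact congrArg Subtype.val hab
    obtain ⟨n, hn⟩ := exists_kill i hU r (bdd_gen i (mem_gen_of_loc i hU (a - b).2)) h0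
    refine ⟨⟨_, n, rfl⟩, Subtype.ext ?_⟩
    have hn' : strB i U r ^ n * (a.1 - b.1) = 0 := hn
    rw [mul_sub, sub_eq_zero] at hn'
    exact hn'

/-- the quasi-coherent algebra -/
def Aqc : RelSpec.QCAlg S where
  presheaf := Apre i
  isSheaf := Apre_isSheaf i
  str := Astr i
  isQC := Apre_isQC i

end

/-- degree `d` -/
def degA (U : S.Opens) (d : ℕ) : AddSubgroup (Asub i U) where
  carrier := {a | ∀ k e, e ≠ d → PowerSeries.coeff e (a.1 k) = 0}
  zero_mem' := fun k e _ => by simp
  add_mem' {a b} ha hb k e he := by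
    show PowerSeries.coeff e (a.1 k + b.1 k) = 0
    rw [map_add, ha k e he, hb k e he, add_zero]
  neg_mem' {a} ha k e he := by
    show PowerSeries.coeff e (-(a.1 k)) = 0
    rw [map_neg, ha k e he, neg_zero]

theorem strA_mem_degA (U : S.Opens) (r : Γ(S, U)) : strA i U r ∈ degA i U 0 := fun k e he => by
  show PowerSeries.coeff e (strB i U r k) = 0
  rw [strB_apply, PowerSeries.coeff_C, if_neg he]

theorem sA_mem_degA (U : S.Opens) (j : Fin (N + 1)) : sA i U j ∈ degA i U 1 := fun k e he => by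
  show PowerSeries.coeff e (sB i U j k) = 0
  rw [sB, PowerSeries.coeff_C_mul, PowerSeries.coeff_X, if_neg he, mul_zero]

instance gradedMonoid_degA (U : S.Opens) : SetLike.GradedMonoid (degA i U) where
  one_mem := fun k e he => by
    show PowerSeries.coeff e (1 : PowerSeries Γ(X, W i k U)) = 0
    rw [PowerSeries.coeff_one, if_neg he]
  mul_mem := fun {m n a b} ha hb k e he => by
    show PowerSeries.coeff e (a.1 k * b.1 k) = 0
    rw [PowerSeries.coeff_mul]
    refine Finset.sum_eq_zero fun p hp => ?_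
    rw [Finset.HasAntidiagonal.mem_antidiagonal] at hp
    by_cases h : p.1 = m
    · rw [hb k p.2 (by omega), mul_zero]
    · rw [ha k p.1 h, zero_mul]

theorem coeff_coe (U : S.Opens) (x : DirectSum ℕ fun d => degA i U d) (k : Fin (N + 1)) (d : ℕ) :
    PowerSeries.coeff d ((DirectSum.coeAddMonoidHom (degA i U) x).1 k) =
      PowerSeries.coeff d ((x d : Asub i U).1 k) := by
  induction x using DirectSum.induction_on with
  | zero => simp
  | of e a =>
    rw [DirectSum.coeAddMonoidHom_of]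
    by_cases h : e = d
    · subst h; rw [DirectSum.of_eq_same]
    · rw [DirectSum.of_eq_of_ne _ _ _ (Ne.symm h), a.2 k d (Ne.symm h)]
      simp
  | add x y hx hy => simp [map_add, hx, hy]

section
variable [IsClosedImmersion i]

theorem mem_of_gens {U : S.Opens} (hU : IsAffineOpen U) (T : Subring (Asub i U))
    (h₀ : ∀ r, strA i U r ∈ T) (h₁ : ∀ j, sA i U j ∈ T) : T = ⊤ := by
  refine top_le_iff.mp fun a _ => ?_
  have : gen i U ≤ T.map (Asub i U).subtype := by
    rw [gen, Subring.closure_le]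
    rintro _ (⟨r, rfl⟩ | ⟨j, rfl⟩)
    · exact ⟨_, h₀ r, rfl⟩
    · exact ⟨_, h₁ j, rfl⟩
  obtain ⟨b, hb, hba⟩ := this (mem_gen_of_loc i hU a.2)
  rwa [show a = b from Subtype.ext hba.symm]

/-- the grading -/
def gradedA (U : S.Opens) (hU : IsAffineOpen U) : GradedRing (degA i U) :=
  haveI h : DirectSum.IsInternal (degA i U) := by
    constructor
    · intro x y hxy
      refine DFinsupp.ext fun d => Subtype.ext (Subtype.ext (ext_coeff i fun k e => ?_))
      by_cases he : e = d
      · subst he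
        rw [← coeff_coe, ← coeff_coe, hxy]
      · exact ((x d).2 k e he).trans ((y d).2 k e he).symm
    · intro a
      have : (DirectSum.coeRingHom (degA i U)).range = ⊤ :=
        mem_of_gens i hU _ (fun r => ⟨DirectSum.of _ 0 ⟨_, strA_mem_degA i U r⟩, DirectSum.coeRingHom_of _ _ _⟩)
          (fun j => ⟨DirectSum.of _ 1 ⟨_, sA_mem_degA i U j⟩, DirectSum.coeRingHom_of _ _ _⟩)
      obtain ⟨x, hx⟩ : a ∈ (DirectSum.coeRingHom (degA i U)).range := this ▸ Subring.mem_top _
      exact ⟨x, hx⟩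
  { gradedMonoid_degA i U, h.chooseDecomposition with }

/-- the graded algebra -/
def Agr : RelProj.QCGrAlg S where
  toQCAlg := Aqc i
  deg U _ := degA i U
  graded U hU := gradedA i U hU
  map_mem {U V} _ _ h {d a} ha k e he := by
    show PowerSeries.coeff e (rB i h (a : Asub i U).1 k) = 0
    rw [coeff_rB]
    exact (congrArg _ (ha k e he)).trans (map_zero _)
  str_mem U _ r := strA_mem_degA i U r

theorem Agr_isGenDegOne : (Agr i).IsGenDegOne := fun U hU =>
  mem_of_gens i hU _ (fun r => Subring.subset_closure (Or.inl (strA_mem_degA i U r)))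
    (fun j => Subring.subset_closure (Or.inr (sA_mem_degA i U j)))

theorem low_degrees {U : S.Opens} {a : BB i U} (ha : a ∈ gen i U) :
    (∃ r : Γ(S, U), ∀ k, PowerSeries.coeff 0 (a k) = (strMap i).appLE U (W i k U) (W_le_pre i k U) r) ∧
    (∃ c : Fin (N + 1) → Γ(S, U), ∀ k, PowerSeries.coeff 1 (a k) =
      ∑ j, (strMap i).appLE U (W i k U) (W_le_pre i k U) (c j) * coordOn i k j (W i k U) (W_le_Xo i k U)) := by
  induction ha using Subring.closure_induction with
  | mem a ha =>
    rcases ha with ⟨r, rfl⟩ | ⟨j, rfl⟩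
    · exact ⟨⟨r, fun k => by simp [strB_apply]⟩, 0, fun k => by simp [strB_apply, PowerSeries.coeff_C]⟩
    · refine ⟨⟨0, fun k => by simp [sB]⟩, Pi.single j 1, fun k => ?_⟩
      rw [sB, PowerSeries.coeff_C_mul, PowerSeries.coeff_X, if_pos rfl, mul_one,
        Finset.sum_eq_single j (fun l _ hl => by simp [Pi.single_eq_of_ne hl]) (by simp)]
      simp
  | zero => exact ⟨⟨0, fun k => by simp⟩, 0, fun k => by simp⟩
  | one => exact ⟨⟨1, fun k => by simp⟩, 0, fun k => by simp [PowerSeries.coeff_one]⟩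
  | add a b _ _ ha hb =>
    obtain ⟨⟨r, hr⟩, c, hc⟩ := ha; obtain ⟨⟨r', hr'⟩, c', hc'⟩ := hb
    exact ⟨⟨r + r', fun k => by rw [Pi.add_apply, map_add, hr, hr', map_add]⟩, c + c', fun k => by
      rw [Pi.add_apply, map_add, hc, hc', ← Finset.sum_add_distrib]
      exact Finset.sum_congr rfl fun j _ => by rw [Pi.add_apply, map_add, add_mul]⟩
  | neg a _ ha =>
    obtain ⟨⟨r, hr⟩, c, hc⟩ := ha
    exact ⟨⟨-r, fun k => by rw [Pi.neg_apply, map_neg, hr, map_neg]⟩, -c, fun k => by
      rw [Pi.neg_apply, map_neg, hc, ← Finset.sum_neg_distrib]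
      exact Finset.sum_congr rfl fun j _ => by rw [Pi.neg_apply, map_neg, neg_mul]⟩
  | mul a b _ _ ha hb =>
    obtain ⟨⟨r, hr⟩, c, hc⟩ := ha; obtain ⟨⟨r', hr'⟩, c', hc'⟩ := hb
    refine ⟨⟨r * r', fun k => ?_⟩, fun j => r * c' j + c j * r', fun k => ?_⟩
    · rw [Pi.mul_apply, PowerSeries.coeff_mul, Finset.Nat.antidiagonal_zero, Finset.sum_singleton, hr,
        hr', map_mul]
    · rw [Pi.mul_apply, PowerSeries.coeff_mul,
        show (Finset.HasAntidiagonal.antidiagonal 1 : Finset (ℕ × ℕ)) = {(0, 1), (1, 0)} from rfl,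
        Finset.sum_pair (by simp), hr, hr', hc, hc', Finset.mul_sum, Finset.sum_mul,
        ← Finset.sum_add_distrib]
      exact Finset.sum_congr rfl fun j _ => by simp only [map_add, map_mul]; ring

theorem Agr_isFTDeg : (Agr i).IsFTDeg 1 := by
  classical
  intro U hU
  refine ⟨Finset.univ.image (sA i U), ?_, fun a ha => ?_⟩
  · intro t ht
    obtain ⟨j, -, rfl⟩ := Finset.mem_image.mp (Finset.mem_coe.mp ht)
    exact sA_mem_degA i U j
  · obtain ⟨-, c, hc⟩ := low_degrees i (mem_gen_of_loc i hU (a : Asub i U).2)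
    refine ⟨fun t => ∑ j ∈ Finset.univ.filter (fun j => sA i U j = t), c j, ?_⟩
    have e : (a : Asub i U) = ∑ j, strA i U (c j) * sA i U j := by
      refine Subtype.ext (ext_coeff i fun k d => ?_)
      rw [AddSubmonoidClass.coe_finsetSum, Finset.sum_apply, map_sum]
      by_cases hd : d = 1
      · subst hd
        rw [hc]
        refine Finset.sum_congr rfl fun j _ => ?_
        show _ = PowerSeries.coeff 1 (strB i U (c j) k * sB i U j k)
        rw [strB_apply, sB, PowerSeries.coeff_C_mul, PowerSeries.coeff_C_mul, PowerSeries.coeff_X,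
          if_pos rfl, mul_one]
      · rw [ha k d hd]
        refine (Finset.sum_eq_zero fun j _ => ?_).symm
        show PowerSeries.coeff d (strB i U (c j) k * sB i U j k) = 0
        rw [strB_apply, sB, PowerSeries.coeff_C_mul, PowerSeries.coeff_C_mul, PowerSeries.coeff_X,
          if_neg hd, mul_zero, mul_zero]
    show (a : Asub i U) = ∑ t ∈ @Finset.image _ _ (fun x y => Classical.propDecidable (x = y)) (sA i U) Finset.univ,
      strA i U _ * t
    rw [e, ← Finset.sum_fiberwise_of_maps_to (g := sA i U) (t := Finset.univ.image (sA i U))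
      (fun j _ => Finset.mem_image_of_mem _ (Finset.mem_univ j))]
    refine Finset.sum_congr (by ext; simp only [Finset.mem_image]) fun t _ => ?_
    rw [map_sum, Finset.sum_mul]
    refine Finset.sum_congr (by ext; simp only [Finset.mem_filter]) fun j hj => ?_
    simp only [Finset.mem_filter, Finset.mem_univ, true_and] at hj
    rw [hj]

end

end

end Groth.Chow.PEmb
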